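import Groth.Prelude.Def_FlatMod2
import Groth.Prelude.Def_CohB1
import Groth.Agent.Ega1.StalkFP
import Groth.Agent.PerfC.FPSections
import Mathlib.RingTheory.Flat.Localization
import Mathlib.RingTheory.LocalRing.Module

/-!
# Flatness over the identity, freeness of stalks
-/

set_option autoImplicit false
universe u
open CategoryTheory CategoryTheory.Limits AlgebraicGeometry

namespace K259.FlatId

theorem flat_iff_of_bijective {R S M : Type*} [CommRing R] [CommRing S] [Algebra R S] [AddCommGroup M] [Module R M]
    [Module S M] [IsScalarTower R S M] (hb : Function.Bijective (algebraMap R S)) :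
    Module.Flat S M ↔ Module.Flat R M := by
  have : IsLocalization (⊥ : Submonoid R) S := by
    have : IsLocalization (⊥ : Submonoid R) R := IsLocalization.self bot_le
    exact IsLocalization.isLocalization_of_algEquiv _ (AlgEquiv.ofBijective (Algebra.ofId R S) hb)
  exact Module.flat_iff_of_isLocalization S (⊥ : Submonoid R) M

theorem isFlatOverAt_id_iff {X : Scheme.{u}} (F : X.Modules) (x : X) :
    FlatMod.IsFlatOverAt (𝟙 X) F x ↔ Module.Flat (X.presheaf.stalk x) (F.presheaf.stalk x) := by
  unfold FlatMod.IsFlatOverAt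
  let := FlatMod.moduleStalkOver (𝟙 X) F x
  let : Algebra (X.presheaf.stalk ((𝟙 X : X ⟶ X).base x)) (X.presheaf.stalk x) :=
    ((𝟙 X : X ⟶ X).stalkMap x).hom.toAlgebra
  have : IsScalarTower (X.presheaf.stalk ((𝟙 X : X ⟶ X).base x)) (X.presheaf.stalk x) (F.presheaf.stalk x) :=
    ⟨fun r a m => by
      rw [Algebra.smul_def, mul_smul]
      rfl⟩
  refine (flat_iff_of_bijective ?_).symm
  exact (ConcreteCategory.isIso_iff_bijective ((𝟙 X : X ⟶ X).stalkMap x)).mp inferInstance

theorem free_stalk_iff {X : Scheme.{u}} (F : X.Modules) (hF : CohB1.IsFP F) (x : X) :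
    Module.Free (X.presheaf.stalk x) (F.presheaf.stalk x) ↔ FlatMod.IsFlatOverAt (𝟙 X) F x := by
  rw [isFlatOverAt_id_iff]
  have hfp := Groth.Agent.Ega1.StalkFP.finitePresentation_stalk F
    (Groth.Agent.PerfC.FPSections.isQCoh_of_isFP hF) hF x
  refine ⟨fun h => inferInstance, fun h => ?_⟩
  exact Module.free_of_flat_of_isLocalRing

end K259.FlatId
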