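import Mathlib.AlgebraicGeometry.Noetherian
import Mathlib.Topology.NoetherianSpace
import Mathlib.Topology.Sober

/-!
# Points in the closure of an open subset of a locally Noetherian scheme
-/

set_option autoImplicit false
universe u

namespace K259.ClosSpec

open AlgebraicGeometry CategoryTheory TopologicalSpace

/-- In a noetherian quasi-sober space, every point of the closure of an open set is a
specialization of a point of the open set. -/
theorem exists_specializes_of_mem_closure {X : Type*} [TopologicalSpace X] [NoetherianSpace X]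
    [QuasiSober X] (O : Set X) (hO : IsOpen O) (s : X) (hs : s ∈ closure O) :
    ∃ η ∈ O, η ⤳ s := by
  obtain ⟨A, hAf, hAc, hAi, hA⟩ :=
    NoetherianSpace.exists_finite_set_isClosed_irreducible (isClosed_closure (s := O))
  let B : Set (Set X) := {t ∈ A | (t ∩ O).Nonempty}
  have hBf : B.Finite := hAf.subset (Set.sep_subset _ _)
  have hBc : IsClosed (⋃₀ B) := by
    rw [Set.sUnion_eq_biUnion]
    exact hBf.isClosed_biUnion (fun t ht => hAc t ht.1)
  have hOB : O ⊆ ⋃₀ B := by
    intro x hx
    have : x ∈ ⋃₀ A := hA ▸ subset_closure hx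
    obtain ⟨t, htA, hxt⟩ := this
    exact ⟨t, ⟨htA, ⟨x, hxt, hx⟩⟩, hxt⟩
  have hsB : s ∈ ⋃₀ B := hBc.closure_subset_iff.2 hOB hs
  obtain ⟨t, ⟨htA, htO⟩, hst⟩ := hsB
  obtain ⟨η, hη⟩ := QuasiSober.sober (hAi t htA) (hAc t htA)
  refine ⟨η, ?_, hη.specializes hst⟩
  obtain ⟨y, hyt, hyO⟩ := htO
  exact (hη.specializes hyt).mem_open hO hyO

/-- In a locally Noetherian scheme, every point of the closure of an open set is a specialization of a
point of the open set. -/
theorem exists_specializes (X : Scheme.{u}) [IsLocallyNoetherian X] (U : X.Opens) (x : X)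
    (hx : x ∈ closure (U : Set X)) : ∃ η ∈ U, η ⤳ x := by
  obtain ⟨W, hW, hxW, -⟩ := exists_isAffineOpen_mem_and_subset (x := x) (U := ⊤) trivial
  have hN : IsNoetherianRing Γ(X, W) := IsLocallyNoetherian.component_noetherian ⟨W, hW⟩
  have hNW : IsNoetherian W := by
    have : IsAffine W := hW
    have h1 : IsLocallyNoetherian (W : Scheme.{u}) := inferInstance
    exact {}
  have h2 : (⟨x, hxW⟩ : W) ∈ closure (W.ι ⁻¹' (U : Set X)) := by
    rw [← W.ι.isOpenEmbedding.isOpenMap.preimage_closure_eq_closure_preimage W.ι.continuous]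
    exact hx
  obtain ⟨η, hη, hs⟩ := exists_specializes_of_mem_closure _ (U.2.preimage W.ι.continuous) _ h2
  exact ⟨W.ι η, hη, hs.map W.ι.continuous⟩

end K259.ClosSpec
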