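import Mathlib.RingTheory.Unramified.LocalStructure
import Mathlib.RingTheory.Unramified.Finite
import Mathlib.RingTheory.Ideal.Pure
import Mathlib.RingTheory.Etale.Locus
import Mathlib.RingTheory.Flat.Localization

/-!
# Flat unramified algebras are formally étale
-/

set_option autoImplicit false
universe u

open TensorProduct

namespace K259.FlatUnram

/-- A flat quotient of a ring is formally étale over it. -/
theorem formallyEtale_of_flat_of_surjective (C D : Type*) [CommRing C] [CommRing D] [Algebra C D]
    [Module.Flat C D] (h : Function.Surjective (algebraMap C D)) : Algebra.FormallyEtale C D := by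
  rw [Algebra.FormallyEtale.iff_of_surjective h]
  have e : (C ⧸ RingHom.ker (algebraMap C D)) ≃ₐ[C] D :=
    Ideal.quotientKerAlgEquivOfSurjective (f := Algebra.ofId C D) h
  have h1 : Module.Flat C (C ⧸ RingHom.ker (algebraMap C D)) := Module.Flat.of_linearEquiv e.toLinearEquiv
  have : (RingHom.ker (algebraMap C D)).Pure := h1
  exact Ideal.isIdempotentElem_of_pure _

/-- A flat unramified algebra is formally étale. -/
theorem formallyEtale (A B : Type*) [CommRing A] [CommRing B] [Algebra A B] [Algebra.FiniteType A B]
    [Algebra.FormallyUnramified A B] [Module.Flat A B] : Algebra.FormallyEtale A B := by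
  rw [← Algebra.etaleLocus_eq_univ_iff, Set.eq_univ_iff_forall]
  intro Q
  have hu : Algebra.IsUnramifiedAt A Q.asIdeal := inferInstance
  obtain ⟨f, hf, P, φ, hφ⟩ := Algebra.IsUnramifiedAt.exists_hasStandardEtaleSurjectionOn (R := A) Q.asIdeal
  have h1 : Algebra.FormallyEtale A (Localization.Away f) := by
    let : Algebra P.Ring (Localization.Away f) := φ.toRingHom.toAlgebra
    have : IsScalarTower A P.Ring (Localization.Away f) :=
      IsScalarTower.of_algebraMap_eq fun r => (φ.commutes r).symm
    have h2 : Module.Flat A (Localization.Away f) := Module.Flat.trans A B _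
    have h3 : Module.Flat P.Ring (Localization.Away f) :=
      Algebra.FormallyUnramified.flat_of_restrictScalars A P.Ring (Localization.Away f)
    have h4 : Algebra.FormallyEtale P.Ring (Localization.Away f) :=
      formallyEtale_of_flat_of_surjective _ _ hφ
    exact Algebra.FormallyEtale.comp A P.Ring _
  have h5 : (PrimeSpectrum.basicOpen f : Set (PrimeSpectrum B)) ⊆ Algebra.etaleLocus A B :=
    Algebra.basicOpen_subset_etaleLocus_iff.2 h1
  exact h5 hf

end K259.FlatUnram
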