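import Mathlib.AlgebraicGeometry.ResidueField
import Mathlib.AlgebraicGeometry.PullbackCarrier
import Mathlib.AlgebraicGeometry.Morphisms.Finite
import Mathlib.AlgebraicGeometry.Morphisms.Etale
import Mathlib.AlgebraicGeometry.Morphisms.Proper
import Mathlib.FieldTheory.PurelyInseparable.Basic
import Mathlib.RingTheory.RingHom.PurelyInseparable

/-!
# Pure inseparability of residue field maps and open base change
-/

set_option autoImplicit false
universe u

namespace K259.InsepRes

open AlgebraicGeometry CategoryTheory CategoryTheory.Limits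

theorem ringHom_isPurelyInseparable_of_bijective {A B : Type*} [CommRing A] [CommRing B] (φ : A →+* B)
    (h : Function.Bijective φ) : φ.IsPurelyInseparable := by
  algebraize [φ]
  have e : A ≃ₐ[A] B := AlgEquiv.ofBijective (Algebra.ofId A B) h
  have := isPurelyInseparable_self A
  exact e.isPurelyInseparable

theorem isPurelyInseparable_of_isIso {A B : CommRingCat.{u}} (φ : A ⟶ B) [IsIso φ] :
    φ.hom.IsPurelyInseparable :=
  ringHom_isPurelyInseparable_of_bijective _ ((ConcreteCategory.isIso_iff_bijective φ).mp inferInstance)

set_option backward.isDefEq.respectTransparency false in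
/-- Pure inseparability of the residue field extension at a point is unchanged by open localisation. -/
theorem isPurelyInseparable_of_open {P P' U U' : Scheme.{u}} (p : P ⟶ U) (p' : P' ⟶ U') (q : P' ⟶ P)
    (j : U' ⟶ U) [IsOpenImmersion q] [IsOpenImmersion j] (w : q ≫ p = p' ≫ j) (v' : P')
    (h : (p.residueFieldMap (q v')).hom.IsPurelyInseparable) :
    (p'.residueFieldMap v').hom.IsPurelyInseparable := by
  have h1 := Scheme.Hom.residueFieldMap_congr w v'
  rw [Scheme.residueFieldMap_comp, Scheme.residueFieldMap_comp] at h1
  let e : U.residueField (p (q v')) ≅ U.residueField (j (p' v')) :=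
    U.residueFieldCongr (show (q ≫ p) v' = (p' ≫ j) v' by rw [w])
  have h1' : p.residueFieldMap (q v') ≫ q.residueFieldMap v' =
    e.hom ≫ j.residueFieldMap (p' v') ≫ p'.residueFieldMap v' := h1
  have h2 : p'.residueFieldMap v' = inv (j.residueFieldMap (p' v')) ≫ e.inv ≫
      p.residueFieldMap (q v') ≫ q.residueFieldMap v' := by
    rw [h1', Iso.inv_hom_id_assoc, IsIso.inv_hom_id_assoc]
  rw [h2]
  have c1 : (inv (j.residueFieldMap (p' v'))).hom.IsPurelyInseparable := isPurelyInseparable_of_isIso _
  have c2 : e.inv.hom.IsPurelyInseparable := isPurelyInseparable_of_isIso _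
  have c3 : (q.residueFieldMap v').hom.IsPurelyInseparable := isPurelyInseparable_of_isIso _
  have c4 := RingHom.IsPurelyInseparable.comp h c3
  have c5 := RingHom.IsPurelyInseparable.comp c2 c4
  exact RingHom.IsPurelyInseparable.comp c1 c5

end K259.InsepRes
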