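import Groth.Agent.Synt.K561.LciDict

/-!
# Pointwise criteria for Koszul morphisms
-/

set_option autoImplicit false
universe u
open CategoryTheory CategoryTheory.Limits AlgebraicGeometry

namespace K259.KoszulPt

open Groth.Agent.Flat2H Groth.Agent.Flat2H.KoszulIdeal Groth.Agent.Flat2H.LCIMaps
  Groth.Agent.Flat2H.LCIMaps2 Groth.Agent.Dual.H375.LciLocus LCI K561.RegImmDict K561.LciDict

variable {X Y Z : Scheme.{u}}

/-- `f` is Koszul at every point of an open subset on which it is lci. -/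
theorem isKoszulAt_of_LM (f : X ⟶ Y) (U : X.Opens) (h : LM (U.ι ≫ f)) (x : X) (hx : x ∈ U) :
    Synt.IsKoszulAt f x := by
  obtain ⟨U', P, i, π, hxU', hft, hi, hπ, he⟩ := (forall_isKoszulAt_iff _).2 h ⟨x, hx⟩
  have e1 : (U.ι.isoImage U').inv ≫ U'.ι ≫ U.ι = (U.ι ''ᵁ U').ι := U.ι.isoImage_inv_ι U'
  refine ⟨U.ι ''ᵁ U', P, (U.ι.isoImage U').inv ≫ i, π, ⟨⟨x, hx⟩, hxU', rfl⟩, ?_, ?_, hπ, ?_⟩
  · rw [← e1, Category.assoc, Category.assoc]
    have : LocallyOfFiniteType (U'.ι ≫ U.ι ≫ f) := hft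
    infer_instance
  · rw [isRegularImmersion_koszul_iff] at hi ⊢
    have := hi.1
    exact ⟨inferInstance, LM_comp (LM_smooth _) hi.2⟩
  · rw [Category.assoc, he, ← e1, Category.assoc, Category.assoc]

/-- If the ring map on a pair of affine opens is lci, then the restriction of `f` to the affine open is lci. -/
theorem LM_of_appLE (f : X ⟶ Y) {V : Y.Opens} (hV : IsAffineOpen V) {U : X.Opens} (hU : IsAffineOpen U)
    (e : U ≤ f ⁻¹ᵁ V)
    (h : AlgProp.toRingHom (fun (A B : Type u) [CommRing A] [CommRing B] [Algebra A B] => IsLCI A B)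
      (f.appLE V U e).hom) : LM (U.ι ≫ f) := by
  have h1 : LM (Spec.map (f.appLE V U e)) := by
    rw [HasRingHomProperty.Spec_iff (P := LM)]
    exact h
  rw [← IsAffineOpen.isoSpec_hom_fromSpec hU, Category.assoc, ← IsAffineOpen.SpecMap_appLE_fromSpec f hV hU e]
  exact LM_comp (LM_smooth _) (LM_comp h1 (LM_smooth _))

end K259.KoszulPt
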