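import Groth.Agent.FlatMor.K259.RegSurj
import Groth.Agent.LoccohB.GorLci
import Groth.Agent.Flat2H.RegSpread
import Groth.Agent.Flat2H.RegularLCI
import Groth.Agent.Flat2H.KoszulDescent
import Groth.Agent.Flat2H.TorDimPoly
import Mathlib.RingTheory.Localization.Algebra

/-!
# Local complete intersections and finite Tor dimension: the affine statement
-/

set_option autoImplicit false
universe u

open IsLocalRing RingTheory.Sequence LCI
open Groth.Agent.Flat2H.KoszulIdeal

namespace K259.LciAlg

theorem map_primeCompl {R S : Type*} [CommRing R] [CommRing S] (f : R →+* S) (hf : Function.Surjective f)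
    (P : Ideal R) [P.IsPrime] (Q : Ideal S) [Q.IsPrime] (h : P = Q.comap f) :
    P.primeCompl.map f = Q.primeCompl := by
  subst h
  ext s
  constructor
  · rintro ⟨r, hr, rfl⟩
    exact hr
  · intro hs
    obtain ⟨r, rfl⟩ := hf s
    exact ⟨r, hs, rfl⟩

theorem ker_localRingHom {R S : Type*} [CommRing R] [CommRing S] (f : R →+* S) (hf : Function.Surjective f)
    (P : Ideal R) [P.IsPrime] (Q : Ideal S) [Q.IsPrime] (h : P = Q.comap f) :
    RingHom.ker (Localization.localRingHom P Q f h) =
      (RingHom.ker f).map (algebraMap R (Localization.AtPrime P)) :=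
  IsLocalization.ker_map (Localization.AtPrime Q) f (map_primeCompl f hf P Q h)

theorem localRingHom_surjective {R S : Type*} [CommRing R] [CommRing S] (f : R →+* S)
    (hf : Function.Surjective f) (P : Ideal R) [P.IsPrime] (Q : Ideal S) [Q.IsPrime] (h : P = Q.comap f) :
    Function.Surjective (Localization.localRingHom P Q f h) :=
  (RingHom.surjectiveOnStalks_of_surjective hf).localRingHom_surjective P Q h

section

variable {T R S : Type u} [CommRing T] [CommRing R] [CommRing S] [IsNoetherianRing T] [Algebra T R]
  [Algebra R S] [Algebra T S] [IsScalarTower T R S]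

/-- Finite Tor dimension of the local ring of a quotient. -/
theorem hasFiniteTorDim_localRingHom (hS : Function.Surjective (algebraMap R S))
    (hfd : DRing.HasFiniteTorDim R S) (p : Ideal R) [p.IsPrime] (q : Ideal S) [q.IsPrime]
    (hp : p = q.comap (algebraMap R S)) :
    letI := (Localization.localRingHom p q (algebraMap R S) hp).toAlgebra
    DRing.HasFiniteTorDim (Localization.AtPrime p) (Localization.AtPrime q) := by
  let a1 : Algebra (Localization.AtPrime p) (Localization.AtPrime q) :=
    (Localization.localRingHom p q (algebraMap R S) hp).toAlgebra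
  have t1 : IsScalarTower R (Localization.AtPrime p) (Localization.AtPrime q) :=
    IsScalarTower.of_algebraMap_eq fun r => by
      change _ = Localization.localRingHom p q (algebraMap R S) hp _
      rw [Localization.localRingHom_to_map]
      exact IsScalarTower.algebraMap_apply R S (Localization.AtPrime q) r
  have h1 : Algebra.algebraMapSubmonoid S p.primeCompl = q.primeCompl :=
    map_primeCompl (algebraMap R S) hS p q hp
  have h2 : IsLocalization (Algebra.algebraMapSubmonoid S p.primeCompl) (Localization.AtPrime q) := by
    rw [h1]
    exact Localization.isLocalization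
  have h3 : IsLocalizedModule p.primeCompl
      (IsScalarTower.toAlgHom R S (Localization.AtPrime q)).toLinearMap :=
    isLocalizedModule_iff_isLocalization.2 h2
  exact Groth.Agent.Models.TorLoc.hasFiniteTorDim_of_isLocalizedModule p.primeCompl
    (IsScalarTower.toAlgHom R S (Localization.AtPrime q)).toLinearMap hfd

/-- The local statement at a prime. -/
theorem local_core (hR : Function.Surjective (algebraMap T R)) (hS : Function.Surjective (algebraMap R S))
    (hfd : DRing.HasFiniteTorDim R S) (hK : IsKoszulRegularIdeal (RingHom.ker (algebraMap T S)))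
    (q : Ideal S) [q.IsPrime] (p : Ideal R) [p.IsPrime] (hp : p = q.comap (algebraMap R S))
    (r : Ideal T) [r.IsPrime] (hr : r = p.comap (algebraMap T R)) :
    (∃ rs : List (Localization.AtPrime r), IsWeaklyRegular (Localization.AtPrime r) rs ∧
      (RingHom.ker (algebraMap T R)).map (algebraMap T (Localization.AtPrime r)) = Ideal.ofList rs) ∧
    ∃ rs : List (Localization.AtPrime p), IsWeaklyRegular (Localization.AtPrime p) rs ∧
      (RingHom.ker (algebraMap R S)).map (algebraMap R (Localization.AtPrime p)) = Ideal.ofList rs := by
  have hTS : Function.Surjective (algebraMap T S) := by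
    rw [IsScalarTower.algebraMap_eq T R S]
    exact hS.comp hR
  have hr' : r = q.comap (algebraMap T S) := by
    rw [hr, hp, Ideal.comap_comap, ← IsScalarTower.algebraMap_eq T R S]
  let φ := Localization.localRingHom r p (algebraMap T R) hr
  let ψ := Localization.localRingHom p q (algebraMap R S) hp
  let χ := Localization.localRingHom r q (algebraMap T S) hr'
  have hcomp : ψ.comp φ = χ := by
    have := Localization.localRingHom_comp r p q (algebraMap T R) hr (algebraMap R S) hp
    rw [← this]
    congr 1
    exact (IsScalarTower.algebraMap_eq T R S).symm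
  let a1 : Algebra (Localization.AtPrime r) (Localization.AtPrime p) := φ.toAlgebra
  let a2 : Algebra (Localization.AtPrime p) (Localization.AtPrime q) := ψ.toAlgebra
  let a3 : Algebra (Localization.AtPrime r) (Localization.AtPrime q) := χ.toAlgebra
  have t1 : IsScalarTower (Localization.AtPrime r) (Localization.AtPrime p) (Localization.AtPrime q) :=
    IsScalarTower.of_algebraMap_eq fun x => by
      change χ x = ψ (φ x)
      rw [← hcomp]; rfl
  have hrle : RingHom.ker (algebraMap T S) ≤ r := by
    rw [hr']
    intro x hx
    rw [Ideal.mem_comap, (RingHom.mem_ker).1 hx]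
    exact q.zero_mem
  obtain ⟨rs, h1, -, -, h2⟩ := Groth.Agent.LoccohB.GorLci.exists_isWeaklyRegular_atPrime
    (RingHom.ker (algebraMap T S)) hK r hrle
  have key := RegSurj.main (T := Localization.AtPrime r) (R := Localization.AtPrime p)
    (S := Localization.AtPrime q) (localRingHom_surjective (algebraMap T R) hR r p hr)
    (localRingHom_surjective (algebraMap R S) hS p q hp)
    (hasFiniteTorDim_localRingHom hS hfd p q hp) ⟨rs, h1, by
      rw [← h2]
      exact ker_localRingHom (algebraMap T S) hTS r q hr'⟩
  have k1 : RingHom.ker (algebraMap (Localization.AtPrime r) (Localization.AtPrime p)) =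
      (RingHom.ker (algebraMap T R)).map (algebraMap T (Localization.AtPrime r)) :=
    ker_localRingHom (algebraMap T R) hR r p hr
  have k2 : RingHom.ker (algebraMap (Localization.AtPrime p) (Localization.AtPrime q)) =
      (RingHom.ker (algebraMap R S)).map (algebraMap R (Localization.AtPrime p)) :=
    ker_localRingHom (algebraMap R S) hS p q hp
  rw [k1, k2] at key
  exact key

/-- From regular generation at a prime to Koszul-regular generation near the prime. -/
theorem exists_genK {P : Type u} [CommRing P] [IsNoetherianRing P] (p : Ideal P) [p.IsPrime] (I : Ideal P)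
    (h : ∃ rs : List (Localization.AtPrime p), IsWeaklyRegular (Localization.AtPrime p) rs ∧
      I.map (algebraMap P (Localization.AtPrime p)) = Ideal.ofList rs) :
    ∃ g : P, g ∉ p ∧ ∀ (Pg : Type u) [CommRing Pg] [Algebra P Pg], ∀ [IsLocalization.Away g Pg],
      GenK (I.map (algebraMap P Pg)) := by
  obtain ⟨rs, hrs, hI⟩ := h
  obtain ⟨g, l, hg, hl⟩ := Groth.Agent.Flat2H.RegSpread.exists_away_generated_by_weaklyRegular p I
    (Localization.AtPrime p) rs hrs hI
  refine ⟨g, hg, fun Pg _ _ _ => ?_⟩
  obtain ⟨h2, h3⟩ := hl Pg (Submonoid.powers g) ⟨1, pow_one g⟩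
  exact ⟨_, Groth.Agent.Flat2H.RegularLCI.isKoszulRegularSeq_of_isWeaklyRegular _ _ h2, h3⟩

/-- The kernel of `R → S` is Koszul-regular. -/
theorem isKoszulRegularIdeal_ker (hR : Function.Surjective (algebraMap T R))
    (hS : Function.Surjective (algebraMap R S))
    (hfd : DRing.HasFiniteTorDim R S) (hK : IsKoszulRegularIdeal (RingHom.ker (algebraMap T S))) :
    IsKoszulRegularIdeal (RingHom.ker (algebraMap R S)) := by
  have hRn : IsNoetherianRing R := isNoetherianRing_of_surjective T R (algebraMap T R) hR
  rw [isKoszulRegularIdeal_iff]
  intro p hp hle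
  have hq : (p.map (algebraMap R S)).IsPrime := Ideal.map_isPrime_of_surjective hS hle
  have hpq : p = (p.map (algebraMap R S)).comap (algebraMap R S) := by
    rw [Ideal.comap_map_of_surjective' (algebraMap R S) hS]
    exact (sup_eq_left.2 hle).symm
  obtain ⟨g, hg, h⟩ := exists_genK p _ (local_core hR hS hfd hK (p.map (algebraMap R S)) p hpq
    (p.comap (algebraMap T R)) rfl).2
  exact ⟨g, hg, h _⟩

end

end K259.LciAlg
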