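import Groth.Agent.FlatMor.K259.LciRing
import Groth.Agent.FlatMor.K259.KoszulPt
import Groth.Prelude.Def_MoreMor

/-!
# `X → Y → S` with `X → S` lci and `X → Y` of finite Tor dimension
-/

set_option autoImplicit false
universe u
open CategoryTheory CategoryTheory.Limits AlgebraicGeometry

namespace K259.LciPerf

open Groth.Agent.Flat2H Groth.Agent.Flat2H.KoszulIdeal Groth.Agent.Flat2H.LCIMaps
  Groth.Agent.Flat2H.LCIMaps2 Groth.Agent.Dual.H375.LciLocus LCI K561.RegImmDict K561.LciDict KoszulPt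

variable {X Y S : Scheme.{u}}

theorem isLCI_of_algEquiv {A B B' : Type u} [CommRing A] [CommRing B] [CommRing B'] [Algebra A B] [Algebra A B']
    (e : B ≃ₐ[A] B') (h : IsLCI A B) : IsLCI A B' := by
  obtain ⟨-, n, f, hf, hk⟩ := h
  exact isLCI_of_kerK (e.toAlgHom.comp f) (e.surjective.comp hf)
    ((kerK_equiv_comp_iff f.toRingHom e.toRingEquiv).2 hk)

/-- The condition "finite type and finite Tor dimension on some small affine opens". -/
theorem main (f : X ⟶ Y) (g : Y ⟶ S) [IsLocallyNoetherian S] [LocallyOfFiniteType g]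
    (h : LM (f ≫ g)) (x : X)
    (hf : ∀ (U : X.Opens) (V : Y.Opens) (_ : IsAffineOpen U) (_ : IsAffineOpen V) (hUV : U ≤ f ⁻¹ᵁ V),
      letI := (f.appLE V U hUV).hom.toAlgebra
      Algebra.FiniteType Γ(Y, V) Γ(X, U) ∧ DRing.HasFiniteTorDim Γ(Y, V) Γ(X, U)) :
    (∃ (V : Y.affineOpens) (U : X.affineOpens) (_ : x ∈ U.1) (e : U.1 ≤ f ⁻¹ᵁ V.1), AlgProp.toRingHom
      (fun (A B : Type u) [CommRing A] [CommRing B] [Algebra A B] => IsLCI A B) (f.appLE V.1 U.1 e).hom) ∧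
    Synt.IsKoszulAt g (f x) := by
  obtain ⟨W, hW, hxW, -⟩ := exists_isAffineOpen_mem_and_subset (x := g (f x)) (U := ⊤) trivial
  obtain ⟨V, hV, hxV, hVW⟩ := exists_isAffineOpen_mem_and_subset (x := f x) (U := g ⁻¹ᵁ W) hxW
  obtain ⟨U, hU, hxU, hUV⟩ := exists_isAffineOpen_mem_and_subset (x := x) (U := f ⁻¹ᵁ V) hxV
  have hVW' : V ≤ g ⁻¹ᵁ W := hVW
  have hUV' : U ≤ f ⁻¹ᵁ V := hUV
  have hUW : U ≤ (f ≫ g) ⁻¹ᵁ W := fun y hy => hVW' (hUV' hy)
  have hN : IsNoetherianRing Γ(S, W) := IsLocallyNoetherian.component_noetherian ⟨W, hW⟩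
  let a1 : Algebra Γ(S, W) Γ(Y, V) := (g.appLE W V hVW').hom.toAlgebra
  let a2 : Algebra Γ(Y, V) Γ(X, U) := (f.appLE V U hUV').hom.toAlgebra
  let a3 : Algebra Γ(S, W) Γ(X, U) := ((f ≫ g).appLE W U hUW).hom.toAlgebra
  have t1 : IsScalarTower Γ(S, W) Γ(Y, V) Γ(X, U) := IsScalarTower.of_algebraMap_eq fun r => by
    change (f ≫ g).appLE W U hUW r = f.appLE V U hUV' (g.appLE W V hVW' r)
    rw [← Scheme.Hom.appLE_comp_appLE f g W V U hVW' hUV']
    rfl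
  have hA : Algebra.FiniteType Γ(S, W) Γ(Y, V) :=
    HasRingHomProperty.appLE (P := @LocallyOfFiniteType) g inferInstance ⟨W, hW⟩ ⟨V, hV⟩ hVW'
  obtain ⟨hB, hfd⟩ := hf U V hU hV hUV'
  obtain ⟨k1, k2⟩ := K259.LciRing.main (R := Γ(S, W)) (A := Γ(Y, V)) (B := Γ(X, U)) hA hB hfd
    (h U W hU hW hUW)
  refine ⟨⟨⟨V, hV⟩, ⟨U, hU⟩, hxU, hUV', k1⟩, ?_⟩
  obtain ⟨a, ha, hLa⟩ := k2 (hU.primeIdealOf ⟨x, hxU⟩).asIdeal
  -- the basic open
  have hDa : IsAffineOpen (Y.basicOpen a) := hV.basicOpen a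
  have hle : Y.basicOpen a ≤ V := Y.basicOpen_le a
  have hfx : f x ∈ Y.basicOpen a := by
    have h1 : f.appLE V U hUV' a ∉ (hU.primeIdealOf ⟨x, hxU⟩).asIdeal := ha
    rw [notMem_primeIdealOf_iff] at h1
    have h2 : X.basicOpen (f.appLE V U hUV' a) = U ⊓ f ⁻¹ᵁ Y.basicOpen a := by
      rw [Scheme.basicOpen_appLE]
    rw [h2] at h1
    exact h1.2
  refine isKoszulAt_of_LM g (Y.basicOpen a) ?_ (f x) hfx
  refine LM_of_appLE g hW hDa (hle.trans hVW') ?_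
  have hloc : IsLocalization.Away a Γ(Y, Y.basicOpen a) := hV.isLocalization_basicOpen a
  let a4 : Algebra Γ(S, W) Γ(Y, Y.basicOpen a) := (g.appLE W (Y.basicOpen a) (hle.trans hVW')).hom.toAlgebra
  have t2 : IsScalarTower Γ(S, W) Γ(Y, V) Γ(Y, Y.basicOpen a) := IsScalarTower.of_algebraMap_eq fun r => by
    change g.appLE W (Y.basicOpen a) _ r = Y.presheaf.map (homOfLE hle).op (g.appLE W V hVW' r)
    rw [← Scheme.Hom.appLE_map g hVW' (homOfLE hle).op]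
    rfl
  exact isLCI_of_algEquiv ((IsLocalization.algEquiv (Submonoid.powers a) (Localization.Away a)
    Γ(Y, Y.basicOpen a)).restrictScalars Γ(S, W)) hLa

end K259.LciPerf
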