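import Groth.Agent.FlatMor.K259.LciAlg
import Groth.Agent.Flat2H.KoszulNoeth
import Groth.Agent.Flat2H.LCIMaps2
import Mathlib.RingTheory.Flat.FaithfullyFlat.Algebra
import Mathlib.RingTheory.Polynomial.Basic
import Mathlib.Algebra.MvPolynomial.Equiv

/-!
# Local complete intersections and finite Tor dimension: `R → A → B` with `R → B` lci and `B` of finite Tor
dimension over `A`
-/

set_option autoImplicit false
universe u

open IsLocalRing RingTheory.Sequence LCI
open Groth.Agent.Flat2H.KoszulIdeal Groth.Agent.Flat2H.LCIMaps Groth.Agent.Flat2H.LCIMaps2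

namespace K259.LciRing

open LciAlg

/-- Descent of regular generation along a flat local homomorphism of Noetherian local rings. -/
theorem regGen_descend {L M : Type u} [CommRing L] [CommRing M] [IsNoetherianRing L] [IsLocalRing L]
    [IsLocalRing M] [Algebra L M] [IsLocalHom (algebraMap L M)] [Module.Flat L M] (I : Ideal L)
    (hI : I ≤ maximalIdeal L)
    (h : ∃ rs : List M, IsWeaklyRegular M rs ∧ I.map (algebraMap L M) = Ideal.ofList rs) :
    ∃ rs : List L, IsWeaklyRegular L rs ∧ I = Ideal.ofList rs := by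
  obtain ⟨rs, hrs, hrsI⟩ := h
  have h1 : GenK (I.map (algebraMap L M)) :=
    ⟨rs, Groth.Agent.Flat2H.RegularLCI.isKoszulRegularSeq_of_isWeaklyRegular _ _ hrs, hrsI⟩
  have hff : Module.FaithfullyFlat L M := Module.FaithfullyFlat.of_flat_of_isLocalHom
  have h2 : IsKoszulRegularIdeal I :=
    Groth.Agent.Flat2H.KoszulDescent.IsKoszulRegularIdeal.of_faithfullyFlat h1.isKoszulRegularIdeal
  obtain ⟨g, hg, h3⟩ := Groth.Agent.Flat2H.KoszulIdeal.IsKoszulRegularIdeal.exists_genK h2 (maximalIdeal L)
  have hgu : IsUnit (algebraMap L L g) := by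
    rw [Algebra.algebraMap_self, RingHom.id_apply]
    by_contra hc
    exact hg ((mem_maximalIdeal g).2 hc)
  obtain ⟨l, hl, hlI⟩ := h3 L hgu
  rw [Algebra.algebraMap_self, Ideal.map_id] at hlI
  refine ⟨l, ?_, hlI⟩
  refine (Groth.Agent.Flat2H.KoszulNoeth.isKoszulRegularSeq_iff_isWeaklyRegular ?_).1 hl
  intro x hx
  apply hI
  rw [hlI]
  exact Ideal.subset_span hx

theorem flat_localRingHom {R S : Type*} [CommRing R] [CommRing S] [Algebra R S] [Module.Flat R S]
    (p : Ideal R) [p.IsPrime] (q : Ideal S) [q.IsPrime] (h : p = q.comap (algebraMap R S)) :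
    letI := (Localization.localRingHom p q (algebraMap R S) h).toAlgebra
    Module.Flat (Localization.AtPrime p) (Localization.AtPrime q) :=
  RingHom.Flat.localRingHom (RingHom.flat_algebraMap_iff.2 inferInstance) q p h

theorem main {R A B : Type u} [CommRing R] [CommRing A] [CommRing B] [IsNoetherianRing R] [Algebra R A]
    [Algebra A B] [Algebra R B] [IsScalarTower R A B] (hA : Algebra.FiniteType R A)
    (hB : Algebra.FiniteType A B)
    (hfd : DRing.HasFiniteTorDim A B) (hRB : IsLCI R B) :
    IsLCI A B ∧ ∀ (q : Ideal B) [q.IsPrime], ∃ a : A, a ∉ q.comap (algebraMap A B) ∧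
      IsLCI R (Localization.Away a) := by
  obtain ⟨n, π, hπ⟩ := Algebra.FiniteType.iff_quotient_mvPolynomial''.1 hA
  obtain ⟨m, ρ, hρ⟩ := Algebra.FiniteType.iff_quotient_mvPolynomial''.1 hB
  let α : MvPolynomial (Fin m) (MvPolynomial (Fin n) R) →+* MvPolynomial (Fin m) A :=
    MvPolynomial.map π.toRingHom
  have hα : Function.Surjective α := MvPolynomial.map_surjective _ hπ
  let γ : MvPolynomial (Fin m) (MvPolynomial (Fin n) R) →ₐ[R] B :=
    { ρ.toRingHom.comp α with
      commutes' := fun r => by
        change ρ (MvPolynomial.map π.toRingHom (algebraMap R _ r)) = algebraMap R B r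
        have h1 : algebraMap R (MvPolynomial (Fin m) (MvPolynomial (Fin n) R)) r =
          MvPolynomial.C (algebraMap R (MvPolynomial (Fin n) R) r) := rfl
        have h2 : (π.toRingHom) (algebraMap R (MvPolynomial (Fin n) R) r) = algebraMap R A r := π.commutes r
        have h3 : (MvPolynomial.C (algebraMap R A r) : MvPolynomial (Fin m) A) =
          algebraMap A (MvPolynomial (Fin m) A) (algebraMap R A r) := rfl
        rw [h1, MvPolynomial.map_C, h2, h3, ρ.commutes, ← IsScalarTower.algebraMap_apply R A B] }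
  have hγ : Function.Surjective γ := hρ.comp hα
  have hK : IsKoszulRegularIdeal (RingHom.ker γ.toRingHom) :=
    IsLCI.kerK_of_equiv hRB (MvPolynomial.sumAlgEquiv R (Fin m) (Fin n)).symm γ hγ
  let a1 : Algebra (MvPolynomial (Fin m) (MvPolynomial (Fin n) R)) (MvPolynomial (Fin m) A) := α.toAlgebra
  let a2 : Algebra (MvPolynomial (Fin m) A) B := ρ.toRingHom.toAlgebra
  let a3 : Algebra (MvPolynomial (Fin m) (MvPolynomial (Fin n) R)) B := γ.toRingHom.toAlgebra
  have t1 : IsScalarTower (MvPolynomial (Fin m) (MvPolynomial (Fin n) R)) (MvPolynomial (Fin m) A) B :=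
    IsScalarTower.of_algebraMap_eq fun x => rfl
  have t2 : IsScalarTower A (MvPolynomial (Fin m) A) B :=
    IsScalarTower.of_algebraMap_eq fun x => (ρ.commutes x).symm
  have hfd' : DRing.HasFiniteTorDim (MvPolynomial (Fin m) A) B :=
    Groth.Agent.Flat2H.TorDimPoly.hasFiniteTorDim_mvPolynomial m B hfd
  have key : IsLCI A B := by
    refine isLCI_of_kerK ρ hρ ?_
    exact isKoszulRegularIdeal_ker (T := MvPolynomial (Fin m) (MvPolynomial (Fin n) R))
      (R := MvPolynomial (Fin m) A) (S := B) hα hρ hfd' hK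
  refine ⟨key, fun q hq => ?_⟩
  -- primes
  let p : Ideal (MvPolynomial (Fin m) A) := q.comap (algebraMap (MvPolynomial (Fin m) A) B)
  let r : Ideal (MvPolynomial (Fin m) (MvPolynomial (Fin n) R)) := p.comap
    (algebraMap (MvPolynomial (Fin m) (MvPolynomial (Fin n) R)) (MvPolynomial (Fin m) A))
  let r₀ : Ideal (MvPolynomial (Fin n) R) := r.comap (algebraMap (MvPolynomial (Fin n) R)
    (MvPolynomial (Fin m) (MvPolynomial (Fin n) R)))
  have hloc := (local_core (T := MvPolynomial (Fin m) (MvPolynomial (Fin n) R))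
      (R := MvPolynomial (Fin m) A) (S := B) hα hρ hfd' hK q p rfl r rfl).1
  have hker : RingHom.ker (algebraMap (MvPolynomial (Fin m) (MvPolynomial (Fin n) R)) (MvPolynomial (Fin m) A)) =
      (RingHom.ker π.toRingHom).map (algebraMap (MvPolynomial (Fin n) R)
        (MvPolynomial (Fin m) (MvPolynomial (Fin n) R))) :=
    MvPolynomial.ker_map π.toRingHom
  rw [hker, Ideal.map_map] at hloc
  have : r.LiesOver r₀ := ⟨rfl⟩
  let a4 : Algebra (Localization.AtPrime r₀) (Localization.AtPrime r) :=
    (Localization.localRingHom r₀ r (algebraMap _ _) rfl).toAlgebra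
  have h5 : IsLocalHom (algebraMap (Localization.AtPrime r₀) (Localization.AtPrime r)) :=
    Localization.isLocalHom_localRingHom r₀ r (algebraMap _ _) rfl
  have h6 : Module.Flat (Localization.AtPrime r₀) (Localization.AtPrime r) := by
    exact flat_localRingHom r₀ r rfl
  have hcomp : (algebraMap (MvPolynomial (Fin m) (MvPolynomial (Fin n) R)) (Localization.AtPrime r)).comp
      (algebraMap (MvPolynomial (Fin n) R) (MvPolynomial (Fin m) (MvPolynomial (Fin n) R))) =
      (algebraMap (Localization.AtPrime r₀) (Localization.AtPrime r)).comp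
        (algebraMap (MvPolynomial (Fin n) R) (Localization.AtPrime r₀)) := by
    refine RingHom.ext fun x => ?_
    exact (Localization.localRingHom_to_map r₀ r _ rfl x).symm
  have hkerle : RingHom.ker π.toRingHom ≤ r₀ := by
    intro x hx
    change algebraMap _ B (algebraMap _ (MvPolynomial (Fin m) A) (algebraMap _ _ x)) ∈ q
    have e1 : algebraMap (MvPolynomial (Fin m) (MvPolynomial (Fin n) R)) (MvPolynomial (Fin m) A)
      (algebraMap (MvPolynomial (Fin n) R) _ x) = MvPolynomial.C (π.toRingHom x) :=
      MvPolynomial.map_C _ _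
    rw [e1, (RingHom.mem_ker).1 hx, map_zero, map_zero]
    exact q.zero_mem
  rw [hcomp, ← Ideal.map_map] at hloc
  have h8 := regGen_descend ((RingHom.ker π.toRingHom).map
    (algebraMap (MvPolynomial (Fin n) R) (Localization.AtPrime r₀))) (by
      rw [← Localization.AtPrime.map_eq_maximalIdeal]
      exact Ideal.map_mono hkerle) hloc
  obtain ⟨g, hg, hgK⟩ := exists_genK r₀ (RingHom.ker π.toRingHom) h8
  refine ⟨π g, ?_, ?_⟩
  · intro hmem
    apply hg
    change algebraMap _ B (algebraMap _ (MvPolynomial (Fin m) A) (algebraMap _ _ g)) ∈ q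
    have e1 : algebraMap (MvPolynomial (Fin m) (MvPolynomial (Fin n) R)) (MvPolynomial (Fin m) A)
      (algebraMap (MvPolynomial (Fin n) R) _ g) = algebraMap A (MvPolynomial (Fin m) A) (π g) :=
      MvPolynomial.map_C _ _
    rw [e1, ← IsScalarTower.algebraMap_apply A (MvPolynomial (Fin m) A) B]
    exact hmem
  · obtain ⟨π', hπ', hker', hcomp'⟩ := exists_awayMap π.toRingHom hπ g
    rw [isLCI_away_iff (A := R) (B := A) (Bb := Localization.Away (π g)) AlgEquiv.refl π g
      (P' := Localization.Away g) π' hπ' hcomp']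
    change IsKoszulRegularIdeal (RingHom.ker π')
    rw [hker']
    exact (hgK (Localization.Away g)).isKoszulRegularIdeal

end K259.LciRing
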