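import Groth.Agent.Models.TorLoc
import Groth.Agent.S2200
import Mathlib.RingTheory.Regular.RegularSequence

/-!
# Two out of three for regular sequences along a chain of surjections `T → R → S`
-/

set_option autoImplicit false
universe u

open IsLocalRing RingTheory.Sequence

namespace K259.RegSurj

/-- Transport of weak regularity along a ring isomorphism. -/
theorem isWeaklyRegular_map_ringEquiv {R S : Type*} [CommRing R] [CommRing S] (e : R ≃+* S) (rs : List R)
    (h : IsWeaklyRegular R rs) : IsWeaklyRegular S (rs.map (e : R → S)) := by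
  refine (AddEquiv.isWeaklyRegular_congr (e := e.toAddEquiv) ?_).1 h
  rw [List.forall₂_map_right_iff, List.forall₂_same]
  intro r _ x
  change e (r * x) = e r * e x
  rw [map_mul]

theorem ofList_map {R S : Type*} [CommRing R] [CommRing S] (φ : R →+* S) (rs : List R) :
    Ideal.ofList (rs.map φ) = (Ideal.ofList rs).map φ := by
  rw [Ideal.ofList, Ideal.ofList, Ideal.map_span]
  congr 1
  ext x
  simp

/-- S2200 for surjections `T → R → S` with `T` Noetherian local and `S` of finite Tor dimension over `R`:
if the kernel of `T → S` is generated by a regular sequence, so are the kernels of `T → R` and `R → S`. -/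
theorem main {T R S : Type u} [CommRing T] [CommRing R] [CommRing S]
    [IsNoetherianRing T] [IsLocalRing T] [Nontrivial S] [Algebra T R] [Algebra R S] [Algebra T S]
    [IsScalarTower T R S] (hR : Function.Surjective (algebraMap T R))
    (hS : Function.Surjective (algebraMap R S)) (hfd : DRing.HasFiniteTorDim R S)
    (hJreg : ∃ rs : List T, IsWeaklyRegular T rs ∧ RingHom.ker (algebraMap T S) = Ideal.ofList rs) :
    (∃ rs : List T, IsWeaklyRegular T rs ∧ RingHom.ker (algebraMap T R) = Ideal.ofList rs) ∧
      ∃ rs : List R, IsWeaklyRegular R rs ∧ RingHom.ker (algebraMap R S) = Ideal.ofList rs := by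
  set I := RingHom.ker (algebraMap T R) with hI
  set J := RingHom.ker (algebraMap T S) with hJ
  have hTS : Function.Surjective (algebraMap T S) := by
    rw [IsScalarTower.algebraMap_eq T R S]
    exact hS.comp hR
  have hIJ : I ≤ J := by
    intro y hy
    rw [hJ, RingHom.mem_ker, IsScalarTower.algebraMap_apply T R S, (RingHom.mem_ker).1 hy, map_zero]
  have hJt : J ≠ ⊤ := RingHom.ker_ne_top _
  let eI : (T ⧸ I) ≃ₐ[T] R := Ideal.quotientKerAlgEquivOfSurjective (f := Algebra.ofId T R) hR
  let eJ : (T ⧸ J) ≃ₐ[T] S := Ideal.quotientKerAlgEquivOfSurjective (f := Algebra.ofId T S) hTS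
  let a1 : Algebra (T ⧸ I) (T ⧸ J) := (Ideal.Quotient.factor hIJ).toAlgebra
  have : IsScalarTower T (T ⧸ I) (T ⧸ J) := IsScalarTower.of_algebraMap_eq fun t => rfl
  -- transport the finite Tor dimension
  have hfd' : DRing.HasFiniteTorDim (T ⧸ I) (T ⧸ J) := by
    let a2 : Algebra R (T ⧸ I) := (eI.symm : R ≃+* (T ⧸ I)).toRingHom.toAlgebra
    let m1 : Module (T ⧸ I) S := Module.compHom S (eI : (T ⧸ I) →+* R)
    have : IsScalarTower R (T ⧸ I) S := ⟨fun a b y => by
      change (eI (eI.symm a * b)) • y = a • (eI b • y)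
      rw [map_mul, AlgEquiv.apply_symm_apply, mul_smul]⟩
    have h1 : DRing.HasFiniteTorDim (T ⧸ I) S :=
      Groth.Agent.Models.TorLoc.hasFiniteTorDim_of_bijective (A := R) (B := T ⧸ I) (M := S) eI.symm.bijective hfd
    refine Groth.Agent.Models.TorLoc.hasFiniteTorDim_of_equiv (A := T ⧸ I) (M := S) ?_ h1
    exact
      { eJ.symm with
        map_smul' := fun a y => by
          obtain ⟨a, rfl⟩ := Ideal.Quotient.mk_surjective a
          have e1 : (Ideal.Quotient.mk I a) • y = a • y := by
            change (eI (Ideal.Quotient.mk I a)) • y = a • y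
            have : eI (Ideal.Quotient.mk I a) = algebraMap T R a := rfl
            rw [this, algebraMap_smul]
          have e2 : (Ideal.Quotient.mk I a) • (eJ.symm y) = a • (eJ.symm y) := by
            have : (Ideal.Quotient.mk I a) = algebraMap T (T ⧸ I) a := rfl
            rw [this, algebraMap_smul]
          simp only [RingHom.id_apply]
          rw [e1]
          change eJ.symm (a • y) = (Ideal.Quotient.mk I a) • (eJ.symm y)
          rw [e2, map_smul] }
  obtain ⟨rs, hrs, hrsJ⟩ := hJreg
  have hreg : IsRegular T rs := by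
    refine ⟨hrs, ?_⟩
    intro h
    apply hJt
    rw [hrsJ]
    have h' : (⊤ : Submodule T T) = Ideal.ofList rs • (⊤ : Submodule T T) := h
    rw [smul_eq_mul, Ideal.mul_top] at h'
    exact h'.symm
  obtain ⟨⟨l, hl1, hl2⟩, l', hl'1, hl'2⟩ :=
    Groth.Agent.S2200.result I J hIJ hJt hfd' ⟨rs, hrsJ.symm, hreg⟩
  refine ⟨⟨l, hl2.toIsWeaklyRegular, hl1.symm⟩, l'.map eI, ?_, ?_⟩
  · exact isWeaklyRegular_map_ringEquiv eI.toRingEquiv l' hl'2.toIsWeaklyRegular
  · have h1 : Ideal.ofList (l'.map eI) = (Ideal.ofList l').map (eI : (T ⧸ I) →+* R) :=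
      ofList_map (eI : (T ⧸ I) →+* R) l'
    rw [h1, hl'1, Ideal.map_map]
    have h2 : (eI : (T ⧸ I) →+* R).comp (Ideal.Quotient.mk I) = algebraMap T R := by
      ext t
      rfl
    rw [h2]
    apply le_antisymm
    · intro x hx
      obtain ⟨t, rfl⟩ := hR x
      refine Ideal.mem_map_of_mem _ ?_
      rw [hJ, RingHom.mem_ker, IsScalarTower.algebraMap_apply T R S]
      exact hx
    · rw [Ideal.map_le_iff_le_comap]
      intro t ht
      rw [Ideal.mem_comap, RingHom.mem_ker, ← IsScalarTower.algebraMap_apply T R S]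
      exact ht

end K259.RegSurj
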